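import Cfsg.Agent.Screen.CosetEnum.Fi22Ord.F22L0.Data

/-!
# Checking the table
-/

set_option autoImplicit false
set_option maxRecDepth 20000

namespace Cfsg.Agent.Screen.CosetEnum.Fi22Ord.F22L0

open Cfsg.Agent.Screen.CosetEnum

set_option Elab.async false

theorem fcheck0 : blocks tbl.toCert 40 0 = true := by decide +kernel

theorem fcheck1 : blocks tbl.toCert 40 40 = true := by decide +kernel

theorem fcheck2 : blocks tbl.toCert 40 80 = true := by decide +kernel

theorem fcheck3 : blocks tbl.toCert 40 120 = true := by decide +kernel

theorem fcheck4 : blocks tbl.toCert 40 160 = true := by decide +kernel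

theorem fcheck5 : blocks tbl.toCert 40 200 = true := by decide +kernel

theorem fcheck6 : blocks tbl.toCert 40 240 = true := by decide +kernel

theorem fcheck7 : blocks tbl.toCert 40 280 = true := by decide +kernel

theorem fcheck8 : blocks tbl.toCert 40 320 = true := by decide +kernel

theorem fcheck9 : blocks tbl.toCert 40 360 = true := by decide +kernel

theorem fcheck10 : blocks tbl.toCert 40 400 = true := by decide +kernel

theorem fcheck11 : blocks tbl.toCert 40 440 = true := by decide +kernel

theorem fcheck12 : blocks tbl.toCert 40 480 = true := by decide +kernel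

theorem fcheck13 : blocks tbl.toCert 40 520 = true := by decide +kernel

theorem fcheck14 : blocks tbl.toCert 40 560 = true := by decide +kernel

theorem fcheck15 : blocks tbl.toCert 40 600 = true := by decide +kernel

end Cfsg.Agent.Screen.CosetEnum.Fi22Ord.F22L0
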