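import Cfsg.Agent.Screen.CosetEnum.Fi22Ord.F22L0.Data

/-!
# Checking the table
-/

set_option autoImplicit false
set_option maxRecDepth 20000

namespace Cfsg.Agent.Screen.CosetEnum.Fi22Ord.F22L0

open Cfsg.Agent.Screen.CosetEnum

set_option Elab.async false

theorem rcheck0 : tbl.rows 150 0 = true := by decide +kernel

theorem rcheck1 : tbl.rows 150 150 = true := by decide +kernel

theorem rcheck2 : tbl.rows 150 300 = true := by decide +kernel

theorem rcheck3 : tbl.rows 150 450 = true := by decide +kernel

theorem rcheck4 : tbl.rows 150 600 = true := by decide +kernel

theorem rcheck5 : tbl.rows 150 750 = true := by decide +kernel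

theorem rcheck6 : tbl.rows 150 900 = true := by decide +kernel

theorem rcheck7 : tbl.rows 150 1050 = true := by decide +kernel

theorem rcheck8 : tbl.rows 150 1200 = true := by decide +kernel

theorem rcheck9 : tbl.rows 150 1350 = true := by decide +kernel

theorem rcheck10 : tbl.rows 150 1500 = true := by decide +kernel

theorem rcheck11 : tbl.rows 150 1650 = true := by decide +kernel

theorem rcheck12 : tbl.rows 150 1800 = true := by decide +kernel

theorem rcheck13 : tbl.rows 150 1950 = true := by decide +kernel

theorem rcheck14 : tbl.rows 150 2100 = true := by decide +kernel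

theorem rcheck15 : tbl.rows 150 2250 = true := by decide +kernel

theorem rcheck16 : tbl.rows 150 2400 = true := by decide +kernel

theorem rcheck17 : tbl.rows 150 2550 = true := by decide +kernel

theorem rcheck18 : tbl.rows 150 2700 = true := by decide +kernel

theorem rcheck19 : tbl.rows 150 2850 = true := by decide +kernel

theorem rcheck20 : tbl.rows 150 3000 = true := by decide +kernel

theorem rcheck21 : tbl.rows 150 3150 = true := by decide +kernel

theorem rcheck22 : tbl.rows 150 3300 = true := by decide +kernel

theorem rcheck23 : tbl.rows 150 3450 = true := by decide +kernel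

end Cfsg.Agent.Screen.CosetEnum.Fi22Ord.F22L0
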