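import Cfsg.Agent.Screen.CosetEnum.Fi22Ord.F22L0.Data

/-!
# Checking the table
-/

set_option autoImplicit false
set_option maxRecDepth 20000

namespace Cfsg.Agent.Screen.CosetEnum.Fi22Ord.F22L0

open Cfsg.Agent.Screen.CosetEnum

set_option Elab.async false

theorem rcheck24 : tbl.rows 150 3600 = true := by decide +kernel

theorem rcheck25 : tbl.rows 150 3750 = true := by decide +kernel

theorem rcheck26 : tbl.rows 150 3900 = true := by decide +kernel

theorem rcheck27 : tbl.rows 150 4050 = true := by decide +kernel

theorem rcheck28 : tbl.rows 150 4200 = true := by decide +kernel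

theorem rcheck29 : tbl.rows 150 4350 = true := by decide +kernel

theorem rcheck30 : tbl.rows 150 4500 = true := by decide +kernel

theorem rcheck31 : tbl.rows 150 4650 = true := by decide +kernel

theorem rcheck32 : tbl.rows 150 4800 = true := by decide +kernel

theorem rcheck33 : tbl.rows 90 4950 = true := by decide +kernel

end Cfsg.Agent.Screen.CosetEnum.Fi22Ord.F22L0
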