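import Cfsg.Agent.Screen.CosetEnum.Fi22Ord.F22L0.Data
import Cfsg.Agent.Screen.CosetEnum.Fi22Ord.F22L0.FCheck0
import Cfsg.Agent.Screen.CosetEnum.Fi22Ord.F22L0.RCheck0
import Cfsg.Agent.Screen.CosetEnum.Fi22Ord.F22L0.RCheck1

/-!
# The table is checked
-/

set_option autoImplicit false
set_option maxRecDepth 20000

namespace Cfsg.Agent.Screen.CosetEnum.Fi22Ord.F22L0

open Cfsg.Agent.Screen.CosetEnum

theorem checked : tbl.Checked where
  facts b hb := by
    have hb' : b < 640 := by
      have : tbl.toCert.nf = 15358 := rfl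
      omega
    by_cases h0 : b < 40
    · exact blocks_spec _ _ _ fcheck0 b (by omega) h0
    by_cases h1 : b < 80
    · exact blocks_spec _ _ _ fcheck1 b (by omega) h1
    by_cases h2 : b < 120
    · exact blocks_spec _ _ _ fcheck2 b (by omega) h2
    by_cases h3 : b < 160
    · exact blocks_spec _ _ _ fcheck3 b (by omega) h3
    by_cases h4 : b < 200
    · exact blocks_spec _ _ _ fcheck4 b (by omega) h4
    by_cases h5 : b < 240
    · exact blocks_spec _ _ _ fcheck5 b (by omega) h5
    by_cases h6 : b < 280
    · exact blocks_spec _ _ _ fcheck6 b (by omega) h6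
    by_cases h7 : b < 320
    · exact blocks_spec _ _ _ fcheck7 b (by omega) h7
    by_cases h8 : b < 360
    · exact blocks_spec _ _ _ fcheck8 b (by omega) h8
    by_cases h9 : b < 400
    · exact blocks_spec _ _ _ fcheck9 b (by omega) h9
    by_cases h10 : b < 440
    · exact blocks_spec _ _ _ fcheck10 b (by omega) h10
    by_cases h11 : b < 480
    · exact blocks_spec _ _ _ fcheck11 b (by omega) h11
    by_cases h12 : b < 520
    · exact blocks_spec _ _ _ fcheck12 b (by omega) h12
    by_cases h13 : b < 560
    · exact blocks_spec _ _ _ fcheck13 b (by omega) h13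
    by_cases h14 : b < 600
    · exact blocks_spec _ _ _ fcheck14 b (by omega) h14
    by_cases h15 : b < 640
    · exact blocks_spec _ _ _ fcheck15 b (by omega) h15
    omega
  rows c hc := by
    have hc' : c < 5040 := hc
    by_cases h0 : c < 150
    · exact Tab.rows_spec _ _ rcheck0 c (by omega) h0 hc
    by_cases h1 : c < 300
    · exact Tab.rows_spec _ _ rcheck1 c (by omega) h1 hc
    by_cases h2 : c < 450
    · exact Tab.rows_spec _ _ rcheck2 c (by omega) h2 hc
    by_cases h3 : c < 600
    · exact Tab.rows_spec _ _ rcheck3 c (by omega) h3 hc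
    by_cases h4 : c < 750
    · exact Tab.rows_spec _ _ rcheck4 c (by omega) h4 hc
    by_cases h5 : c < 900
    · exact Tab.rows_spec _ _ rcheck5 c (by omega) h5 hc
    by_cases h6 : c < 1050
    · exact Tab.rows_spec _ _ rcheck6 c (by omega) h6 hc
    by_cases h7 : c < 1200
    · exact Tab.rows_spec _ _ rcheck7 c (by omega) h7 hc
    by_cases h8 : c < 1350
    · exact Tab.rows_spec _ _ rcheck8 c (by omega) h8 hc
    by_cases h9 : c < 1500
    · exact Tab.rows_spec _ _ rcheck9 c (by omega) h9 hc
    by_cases h10 : c < 1650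
    · exact Tab.rows_spec _ _ rcheck10 c (by omega) h10 hc
    by_cases h11 : c < 1800
    · exact Tab.rows_spec _ _ rcheck11 c (by omega) h11 hc
    by_cases h12 : c < 1950
    · exact Tab.rows_spec _ _ rcheck12 c (by omega) h12 hc
    by_cases h13 : c < 2100
    · exact Tab.rows_spec _ _ rcheck13 c (by omega) h13 hc
    by_cases h14 : c < 2250
    · exact Tab.rows_spec _ _ rcheck14 c (by omega) h14 hc
    by_cases h15 : c < 2400
    · exact Tab.rows_spec _ _ rcheck15 c (by omega) h15 hc
    by_cases h16 : c < 2550
    · exact Tab.rows_spec _ _ rcheck16 c (by omega) h16 hc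
    by_cases h17 : c < 2700
    · exact Tab.rows_spec _ _ rcheck17 c (by omega) h17 hc
    by_cases h18 : c < 2850
    · exact Tab.rows_spec _ _ rcheck18 c (by omega) h18 hc
    by_cases h19 : c < 3000
    · exact Tab.rows_spec _ _ rcheck19 c (by omega) h19 hc
    by_cases h20 : c < 3150
    · exact Tab.rows_spec _ _ rcheck20 c (by omega) h20 hc
    by_cases h21 : c < 3300
    · exact Tab.rows_spec _ _ rcheck21 c (by omega) h21 hc
    by_cases h22 : c < 3450
    · exact Tab.rows_spec _ _ rcheck22 c (by omega) h22 hc
    by_cases h23 : c < 3600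
    · exact Tab.rows_spec _ _ rcheck23 c (by omega) h23 hc
    by_cases h24 : c < 3750
    · exact Tab.rows_spec _ _ rcheck24 c (by omega) h24 hc
    by_cases h25 : c < 3900
    · exact Tab.rows_spec _ _ rcheck25 c (by omega) h25 hc
    by_cases h26 : c < 4050
    · exact Tab.rows_spec _ _ rcheck26 c (by omega) h26 hc
    by_cases h27 : c < 4200
    · exact Tab.rows_spec _ _ rcheck27 c (by omega) h27 hc
    by_cases h28 : c < 4350
    · exact Tab.rows_spec _ _ rcheck28 c (by omega) h28 hc
    by_cases h29 : c < 4500
    · exact Tab.rows_spec _ _ rcheck29 c (by omega) h29 hc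
    by_cases h30 : c < 4650
    · exact Tab.rows_spec _ _ rcheck30 c (by omega) h30 hc
    by_cases h31 : c < 4800
    · exact Tab.rows_spec _ _ rcheck31 c (by omega) h31 hc
    by_cases h32 : c < 4950
    · exact Tab.rows_spec _ _ rcheck32 c (by omega) h32 hc
    by_cases h33 : c < 5040
    · exact Tab.rows_spec _ _ rcheck33 c (by omega) h33 hc
    omega
  base := by decide +kernel

end Cfsg.Agent.Screen.CosetEnum.Fi22Ord.F22L0
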